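import Mathlib
import Cfsg.Agent.Lib.MinNormal
import Cfsg.Agent.S0542
import Cfsg.Agent.FixBN.ReduceMain_m3
import Cfsg.Agent.QTKE.PslTwo_m3
import Cfsg.Agent.Lib.NormalAbelian
import Cfsg.Prelude.Def_LocalStructure
import Cfsg.Agent.FastGrp
import Cfsg.Agent.Prune
set_option linter.all false

section
prune_inst 0x7f00000000000000000000000000000000000000000000000000000000000000000000000000000000000000000000000000000000000000000000000000000000000000000000000000000000000000003fffffffffffffffffffffffffffbeffbdffffffff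

-- part: H245/Red
section
set_option linter.all false
open scoped Cfsg.Agent.FastGrp

/-!
# Overgroups of `p'`-index of a simple group (helper245)

`p` a prime, `H` a subgroup of index prime to `p` of the finite group `G`, `K` a nonabelian simple normal subgroup of `H` with
`C_G(K) = 1`. If every nontrivial normal subgroup of `G` has order divisible by `p`, then `F*(G)` is a nonabelian simple
group containing `K`, with trivial centralizer (`main`).
-/

set_option autoImplicit false

namespace Cfsg.Agent.H245.Red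

open Subgroup Cfsg

variable {G : Type*} [Group G]

/-- a subgroup `R` of `K` normalised by the simple group `K` is `⊥` or `K` -/
theorem simple_cases {K R : Subgroup G} (hs : IsSimpleGroup K) (hRK : R ≤ K)
    (hn : K ≤ normalizer (R : Set G)) : R = ⊥ ∨ R = K := by
  have h1 : (R.subgroupOf K).Normal := (normal_subgroupOf_iff_le_normalizer hRK).2 hn
  rcases h1.eq_bot_or_eq_top with h | h
  · left
    rw [eq_bot_iff]
    intro r hr
    have h2 : (⟨r, hRK hr⟩ : K) ∈ R.subgroupOf K := mem_subgroupOf.2 hr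
    rw [h, mem_bot] at h2
    exact congrArg Subtype.val h2
  · right
    exact le_antisymm hRK (subgroupOf_eq_top.1 h)

variable [Finite G] {p : ℕ} [Fact p.Prime]

/-- a Sylow subgroup inside a subgroup of index prime to `p` -/
theorem exists_sylow_le {H : Subgroup G} (hidx : ¬ p ∣ H.index) : ∃ S : Sylow p G, (S : Subgroup G) ≤ H := by
  obtain ⟨P⟩ : Nonempty (Sylow p H) := inferInstance
  have h1 : IsPGroup p ((P : Subgroup H).map H.subtype) := P.isPGroup'.map _
  have h2 : ¬ p ∣ ((P : Subgroup H).map H.subtype).index := by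
    rw [index_map_subtype]
    intro h
    rcases (Fact.out : p.Prime).dvd_mul.1 h with h | h
    · exact P.not_dvd_index h
    · exact hidx h
  exact ⟨h1.toSylow h2, by rw [IsPGroup.toSylow_coe]; exact map_subtype_le _⟩

/-- Sylow subgroups meet subnormal subgroups of order divisible by `p` -/
theorem inf_ne_bot (S : Sylow p G) {A : Subgroup G} (hA : A.IsSubnormal) (hp : p ∣ Nat.card A) :
    (S : Subgroup G) ⊓ A ≠ ⊥ := by
  intro h
  obtain ⟨Q, hQ⟩ := S0542.result p A hA S
  have h1 : (Q : Subgroup A) = ⊥ := by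
    rw [hQ, subgroupOf_eq_bot, disjoint_iff]
    exact h
  have h2 := Q.not_dvd_index
  rw [h1, index_bot] at h2
  exact h2 hp

/-- **The basic step.** -/
theorem le_of_subnormal {S : Sylow p G} {K A : Subgroup G} (hS : (S : Subgroup G) ≤ normalizer (K : Set G))
    (hs : IsSimpleGroup K) (hC : centralizer (K : Set G) = ⊥) (hA : A.IsSubnormal) (hp : p ∣ Nat.card A)
    (hKA : K ≤ normalizer (A : Set G)) : K ≤ A := by
  rcases simple_cases (R := K ⊓ A) hs inf_le_left
    (Lib.MinNormal.le_normalizer_inf K.le_normalizer hKA) with h | h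
  · exfalso
    apply inf_ne_bot S hA hp
    rw [eq_bot_iff, ← hC]
    rintro x ⟨hx, hxA⟩
    rw [mem_centralizer_iff]
    intro k hk
    have h1 : x * k * x⁻¹ * k⁻¹ ∈ K := mul_mem ((mem_normalizer_iff.1 (hS hx) k).1 hk) (inv_mem hk)
    have h2 : x * k * x⁻¹ * k⁻¹ ∈ A := by
      rw [show x * k * x⁻¹ * k⁻¹ = x * (k * x⁻¹ * k⁻¹) by group]
      exact mul_mem hxA ((mem_normalizer_iff.1 (hKA hk) _).1 (inv_mem hxA))
    have h3 : x * k * x⁻¹ * k⁻¹ ∈ K ⊓ A := ⟨h1, h2⟩
    rw [h, mem_bot, mul_inv_eq_one, mul_inv_eq_iff_eq_mul] at h3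
    exact h3.symm
  · rw [← h]
    exact inf_le_right

/-- minimal normal subgroups -/
theorem exists_min [Nontrivial G] : ∃ N : Subgroup G, N.Normal ∧ N ≠ ⊥ ∧
    ∀ M : Subgroup G, M.Normal → M ≤ N → M = ⊥ ∨ M = N := by
  have hfin : {N : Subgroup G | N.Normal ∧ N ≠ ⊥}.Finite := Set.toFinite _
  have hne : {N : Subgroup G | N.Normal ∧ N ≠ ⊥}.Nonempty := ⟨⊤, inferInstance, top_ne_bot⟩
  obtain ⟨N, ⟨hN, hN0⟩, hmin⟩ := hfin.exists_minimal hne
  refine ⟨N, hN, hN0, fun M hM hMN => ?_⟩
  by_cases h : M = ⊥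
  · exact Or.inl h
  · exact Or.inr (le_antisymm hMN (hmin ⟨hM, h⟩ hMN))

/-- **The reduction.** -/
theorem main {H K : Subgroup G} (hidx : ¬ p ∣ H.index) (hHK : H ≤ normalizer (K : Set G))
    (hs : IsSimpleGroup K) (hna : ¬ IsMulCommutative K) (hC : centralizer (K : Set G) = ⊥)
    (hO : ∀ W : Subgroup G, W.Normal → W ≠ ⊥ → p ∣ Nat.card W) :
    ∃ L : Subgroup G, L.Normal ∧ IsSimpleGroup L ∧ ¬ IsMulCommutative L ∧ K ≤ L ∧
      centralizer (L : Set G) = ⊥ ∧ generalizedFittingSubgroup G = L := by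
  obtain ⟨S, hSH⟩ := exists_sylow_le hidx
  have hS : (S : Subgroup G) ≤ normalizer (K : Set G) := hSH.trans hHK
  have : Nontrivial G := by
    have := hs.toNontrivial
    obtain ⟨a, b, hab⟩ := exists_pair_ne K
    exact ⟨a, b, fun h => hab (Subtype.ext h)⟩
  obtain ⟨N, hN, hN0, hmin⟩ := exists_min (G := G)
  have hKN : K ≤ N := le_of_subnormal hS hs hC hN.isSubnormal (hO N hN hN0)
    (by rw [normalizer_eq_top_iff.2 hN]; exact le_top)
  obtain ⟨m, T, hm, hTN, hTs, hTn, hconj, hcomm, hinj, hind, hsup⟩ :=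
    Lib.MinNormal.exists_internal_decomposition N hN0 hmin
  have hcard : ∀ i, Nat.card (T i) = Nat.card (T ⟨0, hm⟩) := by
    intro i
    obtain ⟨g, hg⟩ := hconj ⟨0, hm⟩ i
    rw [hg]
    exact card_map_of_injective (MulAut.conj g).injective
  have hpT : ∀ i, p ∣ Nat.card (T i) := by
    intro i
    obtain ⟨e⟩ := Lib.MinNormal.mulEquiv_pi_of_iSupIndep T (fun i j hij x y hx hy => hcomm i j hij x hx y hy)
      hind hsup
    have h1 := hO N hN hN0
    rw [Nat.card_congr e.toEquiv, Nat.card_pi] at h1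
    rw [Finset.prod_congr rfl (fun i _ => hcard i), Finset.prod_const] at h1
    rw [hcard]
    exact (Fact.out : p.Prime).dvd_of_dvd_pow h1
  have hTsub : ∀ i, (T i).IsSubnormal := fun i =>
    .step (T i) N (hTN i) hN.isSubnormal ((normal_subgroupOf_iff_le_normalizer (hTN i)).2 (hTn i))
  have hKT : ∀ i, K ≤ T i := fun i => le_of_subnormal hS hs hC (hTsub i) (hpT i) (hKN.trans (hTn i))
  have hm1 : m = 1 := by
    by_contra h
    apply hna
    have h2 : (⟨0, hm⟩ : Fin m) ≠ ⟨1, by omega⟩ := by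
      intro h
      have := congrArg Fin.val h
      simp at this
    exact ⟨⟨fun a b => Subtype.ext (hcomm _ _ h2 a (hKT _ a.2) b (hKT _ b.2))⟩⟩
  subst hm1
  have hNT : N = T ⟨0, hm⟩ := by
    rw [← hsup]
    apply le_antisymm
    · exact iSup_le fun i => by rw [Subsingleton.elim i ⟨0, hm⟩]
    · exact le_iSup T _
  have hNs : IsSimpleGroup N := by rw [hNT]; exact hTs _
  have hNna : ¬ IsMulCommutative N := by
    intro h
    apply hna
    refine ⟨⟨fun a b => Subtype.ext ?_⟩⟩
    have h2 : ((a : G) * b) = b * a :=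
      congrArg Subtype.val (h.is_comm.comm (⟨a, hKN a.2⟩ : N) ⟨b, hKN b.2⟩)
    exact h2
  have hNC : centralizer (N : Set G) = ⊥ := by
    rw [eq_bot_iff, ← hC]
    exact centralizer_le hKN
  exact ⟨N, hN, hNs, hNna, hKN, hNC, FixBN.BTheorem.genFitting_eq hN hNs hNna hNC⟩

end Cfsg.Agent.H245.Red
end

-- part: H245/RedTwo
section
set_option linter.all false
open scoped Cfsg.Agent.FastGrp

/-!
# Overgroups of odd index of a simple group, parabolic characteristic 2 (helper245)

* `even_of_parabolic` : parabolic characteristic 2 = even characteristic;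
* `inf_ne_bot_of_le_normalizer`, `exists_central` : `S` meets the simple group `K` it normalises in a 2-central involution;
* `odd_normal` : no normal subgroups of odd order;
* `centralizer_eq_bot` : `C_G(F*(H)) = 1`;
* `main` : the reduction for `p = 2`.
-/

set_option autoImplicit false

namespace Cfsg.Agent.H245.RedTwo

open Subgroup Cfsg

variable {G : Type*} [Group G]

theorem even_of_parabolic (h : IsOfParabolicCharacteristic 2 G) : IsOfEvenCharacteristic G := by
  rintro M ⟨T, hT, hT1, rfl⟩ ⟨S, hS⟩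
  exact h T hT hT1 ⟨S, hS⟩

section

variable [Finite G] {p : ℕ} [Fact p.Prime]

theorem inf_ne_bot_of_le_normalizer (S : Sylow p G) {K : Subgroup G} (hS : (S : Subgroup G) ≤ normalizer (K : Set G))
    (hp : p ∣ Nat.card K) : (S : Subgroup G) ⊓ K ≠ ⊥ := by
  intro h
  have hn : (K.subgroupOf (normalizer (K : Set G))).Normal := inferInstance
  have h1 : p ∣ Nat.card (K.subgroupOf (normalizer (K : Set G))) := by
    rw [Nat.card_congr (subgroupOfEquivOfLe K.le_normalizer).toEquiv]
    exact hp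
  apply Red.inf_ne_bot (S.subtype hS) hn.isSubnormal h1
  rw [eq_bot_iff]
  rintro x ⟨hx1, hx2⟩
  have hx3 : x ∈ (S : Subgroup G).subgroupOf (normalizer (K : Set G)) := hx1
  have h2 : (x : G) ∈ (S : Subgroup G) ⊓ K := ⟨mem_subgroupOf.1 hx3, mem_subgroupOf.1 hx2⟩
  rw [h, mem_bot] at h2
  exact Subtype.ext h2

/-- a central element of order `p` of `S` in `K` -/
theorem exists_central (S : Sylow p G) {K : Subgroup G} (hS : (S : Subgroup G) ≤ normalizer (K : Set G))
    (hp : p ∣ Nat.card K) : ∃ z ∈ K, z ∈ S ∧ orderOf z = p ∧ ∀ x ∈ S, x * z = z * x := by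
  have h := inf_ne_bot_of_le_normalizer S hS hp
  have hn : (K.subgroupOf (S : Subgroup G)).Normal := by
    constructor
    intro k hk s
    rw [mem_subgroupOf] at hk ⊢
    exact (mem_normalizer_iff.1 (hS s.2) _).1 hk
  have hnil : Group.IsNilpotent (S : Subgroup G) := S.isPGroup'.isNilpotent
  have h1 : K.subgroupOf (S : Subgroup G) ≠ ⊥ := by
    intro h2
    apply h
    rw [eq_bot_iff]
    rintro x ⟨hx1, hx2⟩
    have h3 : (⟨x, hx1⟩ : (S : Subgroup G)) ∈ K.subgroupOf (S : Subgroup G) := mem_subgroupOf.2 hx2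
    rw [h2, mem_bot] at h3
    exact congrArg Subtype.val h3
  have h2 := Lib.NormalAbelian.normal_inf_center_ne_bot (K.subgroupOf (S : Subgroup G)) h1
  have hnt : Nontrivial ↥(K.subgroupOf (S : Subgroup G) ⊓ center (S : Subgroup G)) :=
    (Subgroup.nontrivial_iff_ne_bot _).2 h2
  have hpg : IsPGroup p ↥(K.subgroupOf (S : Subgroup G) ⊓ center (S : Subgroup G)) := S.isPGroup'.to_subgroup _
  obtain ⟨n, hn0, hn⟩ := hpg.nontrivial_iff_card.1 hnt
  obtain ⟨w, hw⟩ := exists_prime_orderOf_dvd_card' (G := ↥(K.subgroupOf (S : Subgroup G) ⊓ center (S : Subgroup G))) p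
    (by rw [hn]; exact dvd_pow_self p hn0.ne')
  refine ⟨((w : (S : Subgroup G)) : G), mem_subgroupOf.1 w.2.1, (w : (S : Subgroup G)).2, ?_, ?_⟩
  · rw [Subgroup.orderOf_coe, Subgroup.orderOf_coe, hw]
  · intro x hx
    exact congrArg Subtype.val (mem_center_iff.1 w.2.2 ⟨x, hx⟩)

/-- `C_G(F*(H)) = 1` -/
theorem centralizer_eq_bot {H : Subgroup G}
    (hs : IsSimpleGroup ↥(generalizedFittingSubgroup ↥H)) (hna : ¬ IsMulCommutative ↥(generalizedFittingSubgroup ↥H))
    (hN : centralizer (((generalizedFittingSubgroup ↥H).map H.subtype : Subgroup G) : Set G) ≤ H) :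
    centralizer (((generalizedFittingSubgroup ↥H).map H.subtype : Subgroup G) : Set G) = ⊥ := by
  rw [eq_bot_iff]
  intro x hx
  have h1 : (⟨x, hN hx⟩ : H) ∈ centralizer (generalizedFittingSubgroup ↥H : Set ↥H) := by
    rw [mem_centralizer_iff]
    intro y hy
    exact Subtype.ext (mem_centralizer_iff.1 hx y ⟨y, hy, rfl⟩)
  have h2 := Lib.GenFitting.centralizer_genFitting_le h1
  have h3 : (⟨⟨x, hN hx⟩, h2⟩ : ↥(generalizedFittingSubgroup ↥H)) ∈ center ↥(generalizedFittingSubgroup ↥H) := by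
    rw [mem_center_iff]
    intro y
    exact Subtype.ext (mem_centralizer_iff.1 h1 y y.2)
  rw [FixBN.BTheorem.center_eq_bot hna, mem_bot] at h3
  exact congrArg (fun y : ↥(generalizedFittingSubgroup ↥H) => ((y : ↥H) : G)) h3

end

section

variable [Finite G]

/-- a group of characteristic 2 has no nontrivial normal subgroup of odd order -/
theorem odd_normal_of_charTwo {X : Type*} [Group X] [Finite X] (h : IsOfCharacteristicTwo X) {W : Subgroup X}
    (hW : W.Normal) (h2 : ¬ 2 ∣ Nat.card W) : W = ⊥ := by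
  have : Fact (Nat.Prime 2) := ⟨Nat.prime_two⟩
  have hP : IsPGroup 2 (pCore 2 X) := Lib.Cores.pCore_isPGroup (p := 2)
  have hPn : (pCore 2 X).Normal := pCore_normal 2 X
  have hd : Disjoint W (pCore 2 X) := by
    rw [disjoint_iff]
    have h3 : Nat.card ↥(W ⊓ pCore 2 X) ∣ Nat.card W := card_dvd_of_le inf_le_left
    have h4 : IsPGroup 2 ↥(W ⊓ pCore 2 X) := hP.to_le inf_le_right
    obtain ⟨n, hn⟩ := IsPGroup.iff_card.1 h4
    rw [← card_eq_one, hn]
    rcases Nat.eq_zero_or_pos n with h5 | h5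
    · rw [h5, pow_zero]
    · exfalso
      apply h2
      rw [hn] at h3
      exact (dvd_pow_self 2 h5.ne').trans h3
  have h1 : W ≤ pCore 2 X := by
    refine le_trans ?_ h
    intro x hx
    rw [mem_centralizer_iff]
    intro u hu
    exact ((Lib.MinNormal.commute_of_disjoint (by rw [normalizer_eq_top_iff.2 hPn]; exact le_top)
      (by rw [normalizer_eq_top_iff.2 hW]; exact le_top) hd hx hu).eq).symm
  rw [eq_bot_iff]
  intro x hx
  exact (disjoint_iff.1 hd).le ⟨hx, h1 hx⟩

/-- **No normal subgroups of odd order.** -/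
theorem odd_normal (hE : IsOfEvenCharacteristic G) (S : Sylow 2 G) {K : Subgroup G}
    (hS : (S : Subgroup G) ≤ normalizer (K : Set G)) (hs : IsSimpleGroup K) (hna : ¬ IsMulCommutative K)
    (h2 : 2 ∣ Nat.card K) {W : Subgroup G} (hW : W.Normal) (hWo : ¬ 2 ∣ Nat.card W) : W = ⊥ := by
  have : Fact (Nat.Prime 2) := ⟨Nat.prime_two⟩
  obtain ⟨z, hzK, hzS, hz2, hzc⟩ := exists_central S hS h2
  have hz1 : z ≠ 1 := fun h => by rw [h, orderOf_one] at hz2; omega
  have hzz : z * z = 1 := by rw [← pow_two, ← hz2, pow_orderOf_eq_one]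
  have hzi : z⁻¹ = z := inv_eq_of_mul_eq_one_left hzz
  have hz : IsTwoCentralInvolution z := ⟨hz2, S, hzS, hzc⟩
  have hc := QTKE.charTwo_of_even hE hz
  -- `z` acts on `W` without fixed points
  have h0 : (W.subgroupOf (centralizer ({z} : Set G))) = ⊥ := by
    refine odd_normal_of_charTwo hc inferInstance ?_
    intro h
    apply hWo
    refine h.trans ?_
    have h3 : Nat.card ↥(W.subgroupOf (centralizer ({z} : Set G))) = Nat.card ↥(W ⊓ centralizer ({z} : Set G)) := by
      rw [← card_map_of_injective (centralizer ({z} : Set G)).subtype_injective, subgroupOf_map_subtype]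
    rw [h3]
    exact card_dvd_of_le inf_le_left
  have hfix : ∀ w ∈ W, z * w * z⁻¹ = w → w = 1 := by
    intro w hw h
    have h3 : w ∈ centralizer ({z} : Set G) := by
      rw [mem_centralizer_singleton_iff]
      rw [mul_inv_eq_iff_eq_mul] at h
      exact h.symm
    have h4 : (⟨w, h3⟩ : centralizer ({z} : Set G)) ∈ W.subgroupOf (centralizer ({z} : Set G)) :=
      mem_subgroupOf.2 hw
    rw [h0, mem_bot] at h4
    exact congrArg Subtype.val h4
  let φ : W →* W := (MulAut.conjNormal (H := W) z).toMonoidHom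
  have hφ : MonoidHom.FixedPointFree φ := by
    intro w h
    apply Subtype.ext
    exact hfix w w.2 (congrArg Subtype.val h)
  have hinv : ∀ w ∈ W, z * w * z⁻¹ = w⁻¹ := by
    intro w hw
    have h3 := hφ.coe_eq_inv_of_involutive (by
      intro w
      apply Subtype.ext
      change z * (z * (w : G) * z⁻¹) * z⁻¹ = w
      rw [show z * (z * (w : G) * z⁻¹) * z⁻¹ = (z * z) * w * (z * z)⁻¹ by group, hzz]
      group)
    exact congrArg Subtype.val (congrFun h3 ⟨w, hw⟩)
  -- the elements `[k, z]` centralise `W`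
  have hcomm : ∀ k w : G, w ∈ W → (k * z * k⁻¹ * z⁻¹) * w = w * (k * z * k⁻¹ * z⁻¹) := by
    intro k w hw
    have h3 : z⁻¹ * w * z = w⁻¹ := by
      have := hinv w hw
      rw [hzi] at this ⊢
      exact this
    have h4 : k⁻¹ * w⁻¹ * k ∈ W := by
      have := hW.conj_mem _ (inv_mem hw) k⁻¹
      rwa [inv_inv] at this
    have h5 := hinv _ h4
    have h6 : k * z * k⁻¹ * w⁻¹ * k * z⁻¹ * k⁻¹ = w := by
      have h7 : k * (z * (k⁻¹ * w⁻¹ * k) * z⁻¹) * k⁻¹ = k * (k⁻¹ * w⁻¹ * k)⁻¹ * k⁻¹ := by rw [h5]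
      rw [show k * (k⁻¹ * w⁻¹ * k)⁻¹ * k⁻¹ = w by group] at h7
      have h8 : k * z * k⁻¹ * w⁻¹ * k * z⁻¹ * k⁻¹ = k * (z * (k⁻¹ * w⁻¹ * k) * z⁻¹) * k⁻¹ := by group
      rw [h8, h7]
    calc (k * z * k⁻¹ * z⁻¹) * w = k * z * k⁻¹ * (z⁻¹ * w * z) * z⁻¹ := by group
      _ = k * z * k⁻¹ * w⁻¹ * z⁻¹ := by rw [h3]
      _ = (k * z * k⁻¹ * w⁻¹ * k * z⁻¹ * k⁻¹) * (k * z * k⁻¹ * z⁻¹) := by group
      _ = w * (k * z * k⁻¹ * z⁻¹) := by rw [h6]
  have hWC : (centralizer (W : Set G)).Normal := inferInstance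
  have hKn : K ≤ normalizer ((K ⊓ centralizer (W : Set G) : Subgroup G) : Set G) := by
    refine Lib.MinNormal.le_normalizer_inf K.le_normalizer ?_
    rw [normalizer_eq_top_iff.2 hWC]
    exact le_top
  rcases Red.simple_cases (R := K ⊓ centralizer (W : Set G)) hs inf_le_left hKn with h | h
  · exfalso
    apply hna
    have hzZ : ∀ k ∈ K, k * z = z * k := by
      intro k hk
      have h3 : k * z * k⁻¹ * z⁻¹ ∈ K ⊓ centralizer (W : Set G) := by
        refine mem_inf.2 ⟨mul_mem (mul_mem (mul_mem hk hzK) (inv_mem hk)) (inv_mem hzK), ?_⟩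
        rw [mem_centralizer_iff]
        intro w hw
        exact (hcomm k w hw).symm
      rw [h, mem_bot, mul_inv_eq_one, mul_inv_eq_iff_eq_mul] at h3
      exact h3
    by_contra hna'
    have h4 := FixBN.BTheorem.center_eq_bot hna'
    have h5 : (⟨z, hzK⟩ : K) ∈ center K := by
      rw [mem_center_iff]
      intro k
      exact Subtype.ext (hzZ k k.2)
    rw [h4, mem_bot] at h5
    exact hz1 (congrArg Subtype.val h5)
  · rw [eq_bot_iff]
    intro w hw
    have h3 : z ∈ centralizer (W : Set G) := by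
      have : z ∈ K ⊓ centralizer (W : Set G) := by rw [h]; exact hzK
      exact this.2
    refine hfix w hw ?_
    rw [mul_inv_eq_iff_eq_mul]
    exact (mem_centralizer_iff.1 h3 w hw).symm

/-- **The reduction for `p = 2`.** -/
theorem main (hpar : IsOfParabolicCharacteristic 2 G) (H : Subgroup G) (hidx : ¬ 2 ∣ H.index)
    (hs : IsSimpleGroup ↥(generalizedFittingSubgroup ↥H)) (hna : ¬ IsMulCommutative ↥(generalizedFittingSubgroup ↥H))
    (h2 : 2 ∣ Nat.card ↥(generalizedFittingSubgroup ↥H))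
    (hN : Subgroup.normalizer (((generalizedFittingSubgroup ↥H).map H.subtype : Subgroup G) : Set G) = H) :
    IsSimpleGroup ↥(generalizedFittingSubgroup G) ∧ ¬ IsMulCommutative ↥(generalizedFittingSubgroup G) ∧
      (generalizedFittingSubgroup ↥H).map H.subtype ≤ generalizedFittingSubgroup G ∧
      centralizer (generalizedFittingSubgroup G : Set G) = ⊥ ∧
      centralizer (((generalizedFittingSubgroup ↥H).map H.subtype : Subgroup G) : Set G) = ⊥ := by
  have : Fact (Nat.Prime 2) := ⟨Nat.prime_two⟩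
  have hE := even_of_parabolic hpar
  have hC := centralizer_eq_bot hs hna ((centralizer_le_normalizer _).trans hN.le)
  let e := (generalizedFittingSubgroup ↥H).equivMapOfInjective H.subtype H.subtype_injective
  have hKs : IsSimpleGroup ↥((generalizedFittingSubgroup ↥H).map H.subtype) := e.isSimpleGroup_congr.1 hs
  have hKna : ¬ IsMulCommutative ↥((generalizedFittingSubgroup ↥H).map H.subtype) := by
    intro h
    apply hna
    refine ⟨⟨fun a b => e.injective ?_⟩⟩
    rw [map_mul, map_mul]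
    exact h.is_comm.comm _ _
  have hK2 : 2 ∣ Nat.card ↥((generalizedFittingSubgroup ↥H).map H.subtype) := by
    rw [← Nat.card_congr e.toEquiv]
    exact h2
  obtain ⟨S, hSH⟩ := Red.exists_sylow_le hidx
  obtain ⟨L, h3, h4, h5, h6, h7, h8⟩ := Red.main (p := 2) hidx hN.ge hKs hKna hC (fun W hW hW1 => by
    by_contra h
    exact hW1 (odd_normal hE S (hSH.trans hN.ge) hKs hKna hK2 hW h))
  rw [h8]
  exact ⟨h4, h5, h6, h7, hC⟩

end

end Cfsg.Agent.H245.RedTwo
end
end
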