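import Mathlib
import Cfsg.Prelude.Def_Classical
import Cfsg.Agent.GH.Cov.LFour
import Cfsg.Prelude.Def_CaseTheorems
import Cfsg.Agent.GH.Q2.ModelSp4_m3
import Cfsg.Agent.LFourA.Quot
import Cfsg.Agent.Lib.NormalAbelian
import Cfsg.Agent.FastGrp
import Cfsg.Agent.Prune
set_option linter.all false
prune_inst 0x7f00000000000000000000000000000000000000000000000000000000000000000000000000000000000000000000000000000000000000000000000000000000000000000000000000000000000000003fffffffffffffffffffffffffffbeffbdffffffff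
open scoped Cfsg.Agent.FastGrp

-- part: H245/Trans16
section
/-!
# `PSL(4,q)`, `q ≡ 1 (mod 4)`, and `PSU(4,q)`, `q ≡ 3 (mod 4)`: a transitive elementary abelian subgroup of order 16

Variant of `GH.Cov.Pauli`, `GH.Cov.LFour` with the transitivity in the conclusion: there is an elementary abelian
subgroup of order 16 all of whose involutions are conjugate in the group.
-/

set_option autoImplicit false

namespace Cfsg.Agent.H245.Trans16

open Cfsg Subgroup Matrix Cfsg.Agent.GH.Cov.Pauli Cfsg.Agent.GH.Cov.LFour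

/-- An elementary abelian subgroup of order 16 all of whose involutions are conjugate in `X`. -/
def Trans16 (X : Type*) [Group X] : Prop :=
  ∃ E : Subgroup X, Nat.card E = 16 ∧ (∀ a ∈ E, a * a = 1) ∧
    ∀ a ∈ E, ∀ b ∈ E, a ≠ 1 → b ≠ 1 → ∃ g : X, g * a * g⁻¹ = b

theorem Trans16.of_equiv {X Y : Type*} [Group X] [Group Y] (e : X ≃* Y) (h : Trans16 X) : Trans16 Y := by
  obtain ⟨E, h1, h2, h3⟩ := h
  refine ⟨E.map e.toMonoidHom, ?_, ?_, ?_⟩
  · rw [← h1]
    exact (Nat.card_congr (E.equivMapOfInjective e.toMonoidHom e.injective).toEquiv).symm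
  · rintro _ ⟨a, ha, rfl⟩
    rw [← map_mul, h2 a ha, map_one]
  · rintro _ ⟨a, ha, rfl⟩ _ ⟨b, hb, rfl⟩ ha1 hb1
    obtain ⟨g, hg⟩ := h3 a ha b hb (fun h => ha1 (by rw [h, map_one])) (fun h => hb1 (by rw [h, map_one]))
    refine ⟨e g, ?_⟩
    rw [← hg]
    simp

section Abs

variable {K : Type*} [Field K] (φ : GaussianInt →+* K)
variable {H : Type*} [Group H] (ι : H →* Matrix.SpecialLinearGroup (Fin 4) K)

include φ ι

/-- **Abstract form.** -/
theorem good (h2 : (2 : K) ≠ 0) (hι : Function.Injective ι)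
    (hP : ∀ n : Fin 16, ∃ h : H, (ι h : Matrix (Fin 4) (Fin 4) K) = mp φ (PZ n))
    (hC1 : ∃ (h : H) (μ : K), (ι h : Matrix (Fin 4) (Fin 4) K) = μ • mp φ C1)
    (hC3 : ∃ h : H, (ι h : Matrix (Fin 4) (Fin 4) K) = mp φ C3) :
    Trans16 (H ⧸ center H) := by
  choose p hp using hP
  obtain ⟨c1, μ, hc1⟩ := hC1
  obtain ⟨c3, hc3⟩ := hC3
  have hmul : ∀ n m : Fin 16, ∃ k : Fin 16, ((p n : H ⧸ center H) * (p m : H ⧸ center H) = p k) ∧
      (n ≠ m → k ≠ 0) := by
    intro n m
    obtain ⟨k, l, h1, h3⟩ := mul_PZ n m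
    refine ⟨k, ?_, h3⟩
    rw [← QuotientGroup.mk_mul]
    apply rel ι hι (l := φ (I ^ (l : ℕ)))
    rw [map_mul, Matrix.SpecialLinearGroup.coe_mul, hp, hp, hp, ← mp_smul, ← map_mul]
    exact mp_congr φ h1
  have h0 : (p 0 : H ⧸ center H) = 1 := by
    rw [← QuotientGroup.mk_one]
    apply rel ι hι (l := 1)
    rw [map_one, Matrix.SpecialLinearGroup.coe_one, one_smul, hp]
    rw [PZ_zero, mp, map_one]
  have hsq : ∀ n : Fin 16, (p n : H ⧸ center H) * (p n : H ⧸ center H) = 1 := by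
    intro n
    obtain ⟨l, h1⟩ := sq_PZ n
    rw [← h0, ← QuotientGroup.mk_mul]
    apply rel ι hι (l := φ (I ^ (l : ℕ)))
    rw [map_mul, Matrix.SpecialLinearGroup.coe_mul, hp, hp, ← mp_smul, ← map_mul]
    exact mp_congr φ h1
  have hne : ∀ n : Fin 16, n ≠ 0 → (p n : H ⧸ center H) ≠ 1 := by
    intro n hn h1
    rw [QuotientGroup.eq_one_iff, mem_center_iff] at h1
    obtain ⟨m, hm⟩ := anti_PZ n hn
    have h3 := congrArg (fun x => ((ι x : Matrix.SpecialLinearGroup (Fin 4) K) :
      Matrix (Fin 4) (Fin 4) K)) (h1 (p m))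
    simp only [map_mul, Matrix.SpecialLinearGroup.coe_mul] at h3
    have h4 : (ι (p n) : Matrix (Fin 4) (Fin 4) K) * (ι (p m)) +
        (ι (p m) : Matrix (Fin 4) (Fin 4) K) * (ι (p n)) = 0 := by
      rw [hp, hp, ← map_mul, ← map_mul, ← map_add]
      have : PZ n * PZ m + PZ m * PZ n = 0 := Matrix.ext hm
      rw [this, map_zero]
    rw [h3, ← two_smul K, smul_eq_zero] at h4
    rcases h4 with h4 | h4
    · exact h2 h4
    · have h5 := congrArg Matrix.det h4
      rw [Matrix.det_mul, Matrix.SpecialLinearGroup.det_coe, Matrix.SpecialLinearGroup.det_coe,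
        Matrix.det_zero] at h5
      simp at h5
  have hinj : Function.Injective fun n : Fin 16 => (p n : H ⧸ center H) := by
    intro n m h
    by_contra hnm
    obtain ⟨k, hk, hk0⟩ := hmul n m
    simp only at h
    rw [h, hsq] at hk
    exact hne k (hk0 hnm) hk.symm
  -- the subgroup
  let E : Subgroup (H ⧸ center H) :=
    { carrier := Set.range fun n : Fin 16 => (p n : H ⧸ center H)
      mul_mem' := by
        rintro _ _ ⟨n, rfl⟩ ⟨m, rfl⟩
        obtain ⟨k, hk, -⟩ := hmul n m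
        exact ⟨k, hk.symm⟩
      one_mem' := ⟨0, h0⟩
      inv_mem' := by
        rintro _ ⟨n, rfl⟩
        refine ⟨n, ?_⟩
        exact (inv_eq_of_mul_eq_one_left (hsq n)).symm }
  have hcard : Nat.card E = 16 := by
    have h1 : Nat.card E = Nat.card (Set.range fun n : Fin 16 => (p n : H ⧸ center H)) := rfl
    rw [h1, Nat.card_range_of_injective hinj, Nat.card_eq_fintype_card, Fintype.card_fin]
  -- conjugations
  have s1 : ∀ n : Fin 16, (c1 : H ⧸ center H) * p n * (c1 : H ⧸ center H)⁻¹ = p (p1 n) := by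
    intro n
    rw [mul_inv_eq_iff_eq_mul, ← QuotientGroup.mk_mul, ← QuotientGroup.mk_mul]
    obtain ⟨l, h1⟩ := c1_PZ n
    apply rel ι hι (l := φ (I ^ (l : ℕ)))
    rw [map_mul, map_mul, Matrix.SpecialLinearGroup.coe_mul, Matrix.SpecialLinearGroup.coe_mul, hp,
      hp, hc1, smul_mul_assoc, ← map_mul, mul_smul_comm, ← map_mul, smul_comm, ← mp_smul]
    congr 1
    exact mp_congr φ h1
  have s3 : ∀ n : Fin 16, (c3 : H ⧸ center H) * p n * (c3 : H ⧸ center H)⁻¹ = p (p3 n) := by
    intro n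
    rw [mul_inv_eq_iff_eq_mul, ← QuotientGroup.mk_mul, ← QuotientGroup.mk_mul]
    obtain ⟨l, h1⟩ := c3_PZ n
    apply rel ι hι (l := φ (I ^ (l : ℕ)))
    rw [map_mul, map_mul, Matrix.SpecialLinearGroup.coe_mul, Matrix.SpecialLinearGroup.coe_mul, hp,
      hp, hc3, ← map_mul, ← map_mul, ← mp_smul]
    exact mp_congr φ h1
  let R : Fin 16 → Prop := fun n => ∃ g : H ⧸ center H, g * p 1 * g⁻¹ = p n
  have t1 : ∀ n, R n → R (p1 n) := by
    rintro n ⟨g, hg⟩
    refine ⟨(c1 : H ⧸ center H) * g, ?_⟩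
    rw [← s1, ← hg]
    group
  have t3 : ∀ n, R n → R (p3 n) := by
    rintro n ⟨g, hg⟩
    refine ⟨(c3 : H ⧸ center H) * g, ?_⟩
    rw [← s3, ← hg]
    group
  have r1 : R 1 := ⟨1, by group⟩
  have r3 : R 3 := t3 1 r1
  have r2 : R 2 := t3 3 r3
  have r8 : R 8 := t1 2 r2
  have r9 : R 9 := t1 3 r3
  have r10 : R 10 := t1 8 r8
  have r11 : R 11 := t1 9 r9
  have r12 : R 12 := t3 8 r8
  have r15 : R 15 := t3 9 r9
  have r13 : R 13 := t3 10 r10
  have r14 : R 14 := t3 11 r11
  have r4 : R 4 := t3 12 r12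
  have r7 : R 7 := t3 13 r13
  have r5 : R 5 := t3 14 r14
  have r6 : R 6 := t3 15 r15
  have hR : ∀ n : Fin 16, n ≠ 0 → R n := by
    intro n hn
    fin_cases n
    · exact absurd rfl hn
    all_goals assumption
  refine ⟨E, hcard, ?_, ?_⟩
  · rintro _ ⟨n, rfl⟩
    exact hsq n
  · rintro _ ⟨n, rfl⟩ _ ⟨m, rfl⟩ hn hm
    obtain ⟨g, hg⟩ := hR n (fun h => hn (by rw [h]; exact h0))
    obtain ⟨k, hk⟩ := hR m (fun h => hm (by rw [h]; exact h0))
    refine ⟨k * g⁻¹, ?_⟩
    simp only
    rw [← hg, ← hk]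
    group


end Abs

/-- `PSL(4,q)`, `q ≡ 1 (mod 4)`. -/
theorem psl_four {F : Type*} [Field F] [Finite F] (h4 : Nat.card F % 4 = 1) :
    Trans16 (Matrix.ProjectiveSpecialLinearGroup (Fin 4) F) := by
  classical
  have : Fintype F := Fintype.ofFinite F
  rw [Nat.card_eq_fintype_card] at h4
  have h2 : (2 : F) ≠ 0 := by
    apply Ring.two_ne_zero
    intro h
    have := FiniteField.even_card_iff_char_two.1 h
    omega
  obtain ⟨i, hi⟩ := FiniteField.isSquare_neg_one_iff.2 (by omega : Fintype.card F % 4 ≠ 3)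
  have hi' : i * i = -1 := hi.symm
  refine good (hom i hi') (MonoidHom.id _) h2 Function.injective_id (fun n => ?_) ?_ ?_
  · exact ⟨⟨mp (hom i hi') (PZ n), by rw [det_mp, det_PZ, map_one]⟩, rfl⟩
  · refine ⟨⟨(1 - i)⁻¹ • mp (hom i hi') C1, ?_⟩, (1 - i)⁻¹, rfl⟩
    rw [Matrix.det_smul, det_mp, det_C1, map_neg, Fintype.card_fin]
    have : (hom i hi') 4 = 4 := map_ofNat _ 4
    rw [this]
    exact (mu_pow hi' h2).2
  · exact ⟨⟨mp (hom i hi') C3, by rw [det_mp, det_C3, map_one]⟩, rfl⟩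

/-- `PSU(4,q)`, `q ≡ 3 (mod 4)`. -/
theorem psu_four {F : Type*} [Field F] [Finite F] {q : ℕ} (hF : Nat.card F = q ^ 2)
    (h4 : q % 4 = 3) : Trans16 (PSU 4 F q) := by
  classical
  have : Fintype F := Fintype.ofFinite F
  rw [Nat.card_eq_fintype_card] at hF
  have hcard4 : Fintype.card F % 4 = 1 := by
    rw [hF, Nat.pow_mod, h4]
  have h2 : (2 : F) ≠ 0 := by
    apply Ring.two_ne_zero
    intro h
    have := FiniteField.even_card_iff_char_two.1 h
    omega
  obtain ⟨i, hi⟩ := FiniteField.isSquare_neg_one_iff.2 (by omega : Fintype.card F % 4 ≠ 3)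
  have hi' : i * i = -1 := hi.symm
  obtain ⟨p, hp⟩ := CharP.exists F
  have hpp : p.Prime := CharP.char_is_prime F p
  have : Fact p.Prime := ⟨hpp⟩
  obtain ⟨n, -, hn⟩ := FiniteField.card F p
  have hq : q ∣ p ^ (n : ℕ) := by
    rw [← hn, hF]
    exact dvd_pow_self q two_ne_zero
  obtain ⟨m, -, hm⟩ := (Nat.dvd_prime_pow hpp).1 hq
  have hexp : ExpChar F p := ExpChar.prime hpp
  let σ : F →+* F := iterateFrobenius F p m
  have hσ : ∀ x, σ x = x ^ q := by
    intro x
    rw [hm]
    exact iterateFrobenius_def p m x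
  have hiq : i ^ q = -i := by
    obtain ⟨k, hk⟩ : ∃ k, q = 4 * k + 3 := ⟨q / 4, by omega⟩
    rw [hk, pow_add, pow_mul]
    have : i ^ 4 = 1 := by
      calc i ^ 4 = (i * i) * (i * i) := by ring
        _ = 1 := by rw [hi']; ring
    rw [this, one_pow, one_mul]
    calc i ^ 3 = (i * i) * i := by ring
      _ = -i := by rw [hi']; ring
  have hφσ : ∀ x : GaussianInt, σ (hom i hi' x) = hom i hi' (star x) := by
    have : σ.comp (hom i hi') = (hom i hi').comp (starRingEnd GaussianInt) := by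
      apply Zsqrtd.hom_ext
      rw [RingHom.comp_apply, RingHom.comp_apply]
      have e1 : (Zsqrtd.sqrtd : GaussianInt) = I := rfl
      rw [e1, hom_I, hσ, hiq]
      have e2 : starRingEnd GaussianInt I = -I := by
        rw [starRingEnd_apply]
        decide +kernel
      rw [e2, map_neg, hom_I]
    exact fun x => RingHom.congr_fun this x
  have hS : ∀ g : SU 4 F q, (SU 4 F q).subtype g = g.1 := fun g => rfl
  refine good (hom i hi') (SU 4 F q).subtype h2 (SU 4 F q).subtype_injective (fun n => ?_) ?_ ?_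
  · refine ⟨⟨⟨mp (hom i hi') (PZ n), by rw [det_mp, det_PZ, map_one]⟩, ?_⟩, rfl⟩
    exact mem_su σ hσ (hom i hi') hφσ (M := PZ n) (μ := 1) (N := 1) (one_smul _ _).symm
      (herm_PZ n) (by simp)
  · have hdet : ((1 - i)⁻¹ • mp (hom i hi') C1).det = 1 := by
      rw [Matrix.det_smul, det_mp, det_C1, map_neg, Fintype.card_fin]
      have : (hom i hi') 4 = 4 := map_ofNat _ 4
      rw [this]
      exact (mu_pow hi' h2).2
    refine ⟨⟨⟨(1 - i)⁻¹ • mp (hom i hi') C1, hdet⟩, ?_⟩, (1 - i)⁻¹, rfl⟩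
    refine mem_su σ hσ (hom i hi') hφσ (M := C1) (μ := (1 - i)⁻¹) (N := 2) rfl herm_C1 ?_
    have e1 : σ ((1 - i)⁻¹) = (1 + i)⁻¹ := by
      rw [map_inv₀, map_sub, map_one, hσ, hiq, sub_neg_eq_add]
    have e2 : (hom i hi') 2 = 2 := map_ofNat _ 2
    rw [e1, e2, ← mul_inv]
    have e3 : (1 - i) * (1 + i) = 2 := by linear_combination -hi'
    rw [e3]
    exact inv_mul_cancel₀ h2
  · refine ⟨⟨⟨mp (hom i hi') C3, by rw [det_mp, det_C3, map_one]⟩, ?_⟩, rfl⟩
    exact mem_su σ hσ (hom i hi') hφσ (M := C3) (μ := 1) (N := 1) (one_smul _ _).symm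
      herm_C3 (by simp)

end Cfsg.Agent.H245.Trans16
end

-- part: H245/TypeA10
section
/-!
# Groups with Sylow 2-subgroup `D wr 2` without subgroups of index two

`le_of_even`: every normal subgroup of even order contains the Sylow 2-subgroup.
`exists_simple`: if the odd core is trivial, there is a simple normal subgroup of odd index.
`not_trans`: in the fusion pattern of case I the group has no elementary abelian subgroup of order 16 all of
whose involutions are conjugate.
-/

set_option autoImplicit false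

namespace Cfsg.Agent.H245.TypeA10

open DihedralGroup Cfsg.Agent.LFourA.Model Cfsg.Agent.LFourA.Base Cfsg.Agent.LFourA.Facts Cfsg.Agent.LFourA.Defs
open Subgroup

section

variable {G : Type*} [Group G] {k : ℕ} {f : D k → D k → G} {w : G}

/-- A normal subgroup containing `z` contains `S`. -/
theorem le_of_z_mem {S : Subgroup G} (h : DWr S k f w) (hc : CaseI f w ∨ CaseII f w) (N : Subgroup G)
    [hN : N.Normal] (hz : f (c k) (c k) ∈ N) : S ≤ N := by
  have conj : ∀ {x y : G}, IsConj x y → y ∈ N → x ∈ N := by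
    intro x y hxy hy
    obtain ⟨g, hg⟩ := isConj_iff.1 hxy.symm
    rw [← hg]
    exact hN.conj_mem y hy g
  obtain ⟨ht, hzz, hw⟩ : (∀ i, IsConj (f (sr i) 1) (f (c k) 1)) ∧
      (∀ i, IsConj (f (sr i) (c k)) (f (c k) (c k))) ∧
      (IsConj w (f (c k) 1) ∨ IsConj w (f (c k) (c k))) := by
    rcases hc with hc | hc
    · obtain ⟨g, hg, -⟩ := hc.w_t
      exact ⟨hc.typ_t, hc.typ_z, Or.inl (isConj_iff.2 ⟨g, hg⟩)⟩
    · obtain ⟨g, i, j, -, -, hg, -⟩ := hc.w_z
      exact ⟨hc.typ_t, hc.typ_z, Or.inr (isConj_iff.2 ⟨g, hg⟩)⟩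
  have h1 : ∀ i, f (sr i) (c k) ∈ N := fun i => conj (hzz i) hz
  have h2 : f (sr 0 * c k) 1 ∈ N := by
    have := N.mul_mem (h1 0) hz
    rwa [h.f_mul, c_mul_c] at this
  have htN : f (c k) 1 ∈ N := by
    rw [sr_c] at h2
    exact conj (ht _).symm h2
  have h3 : ∀ i, f (sr i) 1 ∈ N := fun i => conj (ht i) htN
  have h4 : ∀ a, f a 1 ∈ N := by
    rintro (i | i)
    · have h5 := N.mul_mem (h3 0) (h3 i)
      rw [h.f_mul, sr_mul_sr, sub_zero, one_mul] at h5
      exact h5
    · exact h3 i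
  have h5 : ∀ b, f 1 b ∈ N := by
    intro b
    rw [← w_conj h]
    exact hN.conj_mem _ (h4 b) w
  have h6 : ∀ a b, f a b ∈ N := by
    intro a b
    have := N.mul_mem (h4 a) (h5 b)
    rwa [h.f_mul, one_mul, mul_one] at this
  have h7 : w ∈ N := by
    rcases hw with hw | hw
    · exact conj hw htN
    · exact conj hw hz
  intro g hg
  rcases mem_cases h hg with ⟨a, b, rfl⟩ | ⟨a, b, rfl⟩
  · exact h6 a b
  · exact N.mul_mem (h6 a b) h7

variable [Finite G]

/-- An element of 2-power order has a conjugate in a given Sylow 2-subgroup. -/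
theorem exists_conj_mem (P : Sylow 2 G) {x : G} (hx : IsPGroup 2 (zpowers x)) : ∃ g : G, g * x * g⁻¹ ∈ P := by
  obtain ⟨Q, hQ⟩ := hx.exists_le_sylow
  obtain ⟨g, hg⟩ := MulAction.exists_smul_eq G Q P
  refine ⟨g, ?_⟩
  rw [← hg]
  change g * x * g⁻¹ ∈ ((g • Q : Sylow 2 G) : Subgroup G)
  rw [Sylow.coe_subgroup_smul]
  exact Subgroup.mem_map.2 ⟨x, hQ (mem_zpowers x), rfl⟩

variable {P : Sylow 2 G}

/-- **Every normal subgroup of even order contains the Sylow 2-subgroup.** -/
theorem le_of_even (h : DWr (P : Subgroup G) k f w) (hG : ∀ φ : G →* ℤˣ, ∀ x, φ x = 1) (N : Subgroup G)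
    [hN : N.Normal] (h2 : 2 ∣ Nat.card N) : (P : Subgroup G) ≤ N := by
  have h2p : Fact (Nat.Prime 2) := ⟨Nat.prime_two⟩
  obtain ⟨f', h', hc⟩ := Cfsg.Agent.LFourA.FusionMain.main h hG
  refine le_of_z_mem h' hc N ?_
  obtain ⟨x, hx⟩ := exists_prime_orderOf_dvd_card' 2 h2
  have hxG : orderOf (x : G) = 2 := by rw [Subgroup.orderOf_coe, hx]
  have hxp : IsPGroup 2 (zpowers (x : G)) := by
    apply IsPGroup.of_card (n := 1)
    rw [Nat.card_zpowers, hxG, pow_one]
  obtain ⟨g, hg⟩ := exists_conj_mem P hxp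
  have hne : N.subgroupOf (P : Subgroup G) ≠ ⊥ := by
    intro hb
    have h3 : (⟨g * x * g⁻¹, hg⟩ : P) ∈ N.subgroupOf (P : Subgroup G) :=
      mem_subgroupOf.2 (hN.conj_mem _ x.2 g)
    rw [hb, mem_bot] at h3
    have h4 : g * x * g⁻¹ = 1 := congrArg Subtype.val h3
    have h5 : (x : G) = 1 := by
      have := conj_eq_one_iff.1 h4
      exact this
    rw [h5, orderOf_one] at hxG
    omega
  have hnil : Group.IsNilpotent (P : Subgroup G) := P.isPGroup'.isNilpotent
  have h3 := Cfsg.Agent.Lib.NormalAbelian.normal_inf_center_ne_bot (N.subgroupOf (P : Subgroup G)) hne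
  obtain ⟨y, hy⟩ := Subgroup.ne_bot_iff_exists_ne_one.mp h3
  have hy1 : ((y : P) : G) ≠ 1 := by
    intro e
    apply hy
    apply Subtype.ext
    exact Subtype.ext e
  have hyc : ∀ s ∈ (P : Subgroup G), ((y : P) : G) * s = s * ((y : P) : G) := by
    intro s hs
    have := mem_center_iff.1 y.2.2 ⟨s, hs⟩
    exact (congrArg Subtype.val this).symm
  rcases eq_of_central_S h' (y : P).2 hyc with e | e
  · exact absurd e hy1
  · rw [← e]
    exact mem_subgroupOf.1 y.2.1

omit [Finite G] in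
/-- transport of coordinates to a subgroup containing `P` -/
theorem exists_sylow (h : DWr (P : Subgroup G) k f w) {N : Subgroup G} (hPN : (P : Subgroup G) ≤ N) :
    ∃ (Q : Sylow 2 N) (f' : D k → D k → N) (w' : N), DWr (Q : Subgroup N) k f' w' ∧
      (Q : Subgroup N) = (P : Subgroup G).subgroupOf N := by
  have e : (P : Subgroup G) ≃* (P.subtype hPN : Subgroup N) := (Subgroup.subgroupOfEquivOfLe hPN).symm
  obtain ⟨f', w', h'⟩ := Cfsg.Agent.LFourA.SylDih.exists_of_equiv h e
  exact ⟨P.subtype hPN, f', w', h', rfl⟩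

/-- The normal closure of `P` has no homomorphism onto a group of order two. -/
theorem no_hom (h : DWr (P : Subgroup G) k f w) (hG : ∀ φ : G →* ℤˣ, ∀ x, φ x = 1)
    (N : Subgroup G) (hNdef : N = normalClosure ((P : Subgroup G) : Set G)) (φ : N →* ℤˣ) (x : N) :
    φ x = 1 := by
  have hN : N.Normal := hNdef ▸ normalClosure_normal
  have hPN : (P : Subgroup G) ≤ N := hNdef ▸ subset_normalClosure
  let K : Subgroup G := closure {x | ∃ n ∈ N, x = n * n}
  have hK : K.Normal := by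
    constructor
    intro n hn g
    induction hn using closure_induction with
    | mem x hx =>
      obtain ⟨n, hn, rfl⟩ := hx
      refine subset_closure ⟨g * n * g⁻¹, hN.conj_mem n hn g, ?_⟩
      group
    | one => simp
    | mul x y _ _ hx hy =>
      have : g * (x * y) * g⁻¹ = (g * x * g⁻¹) * (g * y * g⁻¹) := by group
      rw [this]
      exact K.mul_mem hx hy
    | inv x _ hx =>
      have : g * x⁻¹ * g⁻¹ = (g * x * g⁻¹)⁻¹ := by group
      rw [this]
      exact K.inv_mem hx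
  have htK : f (c k) 1 ∈ K := by
    refine subset_closure ⟨f (x0 k) 1, hPN (f_mem h _ _), ?_⟩
    rw [h.f_mul, x0_mul_x0, one_mul]
  have h2 : 2 ∣ Nat.card K := by
    have h3 : orderOf (f (c k) 1) = 2 := by
      rw [orderOf_eq_prime_iff]
      refine ⟨?_, t_ne_one h⟩
      rw [pow_two, h.f_mul, c_mul_c, one_mul, f_one h]
    have h4 := orderOf_dvd_natCard (⟨f (c k) 1, htK⟩ : K)
    rwa [← Subgroup.orderOf_coe, h3] at h4
  have hPK : (P : Subgroup G) ≤ K := le_of_even h hG K h2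
  have hNK : N ≤ K := hNdef ▸ normalClosure_le_normal hPK
  have key : ∀ y ∈ K, ∀ hy : y ∈ N, φ ⟨y, hy⟩ = 1 := by
    have h5 : ∀ y ∈ K, ∃ hy : y ∈ N, φ ⟨y, hy⟩ = 1 := by
      intro y hy
      induction hy using closure_induction with
      | mem x hx =>
        obtain ⟨n, hn, rfl⟩ := hx
        refine ⟨N.mul_mem hn hn, ?_⟩
        have : (⟨n * n, N.mul_mem hn hn⟩ : N) = ⟨n, hn⟩ * ⟨n, hn⟩ := rfl
        rw [this, map_mul]
        exact Int.units_mul_self _
      | one => exact ⟨N.one_mem, map_one φ⟩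
      | mul x y _ _ hx hy =>
        obtain ⟨hx, ex⟩ := hx
        obtain ⟨hy, ey⟩ := hy
        refine ⟨N.mul_mem hx hy, ?_⟩
        have : (⟨x * y, N.mul_mem hx hy⟩ : N) = ⟨x, hx⟩ * ⟨y, hy⟩ := rfl
        rw [this, map_mul, ex, ey, one_mul]
      | inv x _ hx =>
        obtain ⟨hx, ex⟩ := hx
        refine ⟨N.inv_mem hx, ?_⟩
        have : (⟨x⁻¹, N.inv_mem hx⟩ : N) = (⟨x, hx⟩ : N)⁻¹ := rfl
        rw [this, map_inv, ex, inv_one]
    intro y hy hyN
    exact (h5 y hy).2
  exact key x (hNK x.2) x.2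

/-- **The simple normal subgroup.** -/
theorem isSimple (h : DWr (P : Subgroup G) k f w) (hG : ∀ φ : G →* ℤˣ, ∀ x, φ x = 1)
    (hO : Cfsg.oddCore G = ⊥) (N : Subgroup G) (hNdef : N = normalClosure ((P : Subgroup G) : Set G)) :
    IsSimpleGroup N := by
  have h2p : Fact (Nat.Prime 2) := ⟨Nat.prime_two⟩
  have hom := no_hom h hG N hNdef
  have hN : N.Normal := hNdef ▸ normalClosure_normal
  have hPN : (P : Subgroup G) ≤ N := hNdef ▸ subset_normalClosure
  obtain ⟨Q, f', w', h', hQ⟩ := exists_sylow h hPN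
  have hnt : Nontrivial N := by
    refine ⟨⟨f (c k) 1, hPN (f_mem h _ _)⟩, 1, fun e => t_ne_one h (congrArg Subtype.val e)⟩
  refine ⟨fun M hM => ?_⟩
  by_cases hM1 : M = ⊥
  · exact Or.inl hM1
  right
  -- `M` has even order
  have h2 : 2 ∣ Nat.card M := by
    by_contra hodd
    apply hM1
    have h3 : M ≤ Cfsg.pPrimeCore 2 N :=
      Cfsg.Agent.Lib.Cores.le_pPrimeCore hM ((Nat.prime_two.coprime_iff_not_dvd.2 hodd).symm)
    have h4 := Cfsg.Agent.Lib.Cores.map_subtype_pPrimeCore 2 hN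
    have h5 : Cfsg.pPrimeCore 2 G = ⊥ := hO
    rw [h5, inf_bot_eq, Subgroup.map_eq_bot_iff_of_injective _ N.subtype_injective] at h4
    rw [h4] at h3
    exact le_bot_iff.1 h3
  have hQM : (Q : Subgroup N) ≤ M := le_of_even h' hom M h2
  -- all 2-elements of `N` are in `M`
  have h2el : ∀ y : N, IsPGroup 2 (zpowers y) → y ∈ M := by
    intro y hy
    obtain ⟨g, hg⟩ := exists_conj_mem Q hy
    have h3 := hM.conj_mem _ (hQM hg) g⁻¹
    have h4 : g⁻¹ * (g * y * g⁻¹) * g⁻¹⁻¹ = y := by group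
    rwa [h4] at h3
  rw [eq_top_iff]
  rintro ⟨y, hy⟩ -
  have h3 : N ≤ M.map N.subtype := by
    refine le_trans (le_of_eq hNdef) ?_
    apply closure_le _ |>.2
    intro x hx
    obtain ⟨p, hp, hpx⟩ := Group.mem_conjugatesOfSet_iff.1 hx
    have hxN : x ∈ N := by
      rw [hNdef]
      exact conjugatesOfSet_subset_normalClosure hx
    refine ⟨⟨x, hxN⟩, ?_, rfl⟩
    apply h2el
    have h4 : IsPGroup 2 (zpowers p) := P.isPGroup'.to_le (by rwa [zpowers_le])
    obtain ⟨n, hn⟩ := h4 ⟨p, mem_zpowers p⟩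
    have hn' : p ^ 2 ^ n = 1 := congrArg Subtype.val hn
    obtain ⟨g, hg⟩ := isConj_iff.1 hpx
    have h5 : x ^ 2 ^ n = 1 := by
      rw [← hg, conj_pow, hn']
      group
    apply IsPGroup.iff_orderOf.2
    rintro ⟨u, hu⟩
    obtain ⟨j, rfl⟩ := hu
    have h6 : ((⟨x, hxN⟩ : N) ^ j) ^ 2 ^ n = 1 := by
      rw [← zpow_natCast, ← zpow_mul, mul_comm, zpow_mul, zpow_natCast]
      have : (⟨x, hxN⟩ : N) ^ 2 ^ n = 1 := Subtype.ext h5
      rw [this, one_zpow]
    have h7 : orderOf (⟨(⟨x, hxN⟩ : N) ^ j, ⟨j, rfl⟩⟩ : zpowers (⟨x, hxN⟩ : N)) ∣ 2 ^ n := by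
      apply orderOf_dvd_of_pow_eq_one
      exact Subtype.ext h6
    obtain ⟨m, -, hm⟩ := (Nat.dvd_prime_pow Nat.prime_two).1 h7
    exact ⟨m, hm⟩
  obtain ⟨y', hy', e⟩ := h3 hy
  have : y' = ⟨y, hy⟩ := Subtype.ext e
  rwa [← this]

/-! ### Elementary abelian subgroups of order 16 -/

omit [Finite G] in
/-- An elementary abelian subgroup of the base group has order at most 16. -/
theorem card_elem_le {S : Subgroup G} (h : DWr S k f w) (A : Subgroup G) (hA : A ≤ base h)
    (hA2 : ∀ x ∈ A, x * x = 1) : Nat.card A ≤ 16 := by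
  have e : (A ⊓ base h : Subgroup G) = A := inf_eq_left.2 hA
  rw [← e, ← card_comap_F h]
  set P' : Subgroup (D k × D k) := A.comap (F h) with hP
  have h1 : Nat.card (P'.map (MonoidHom.fst (D k) (D k))) ≤ 4 := by
    apply Cfsg.Agent.LFourA.Facts.card_elem_le
    rintro _ ⟨p, hp, rfl⟩
    exact ((f_sq_one_iff h).1 (hA2 _ hp)).1
  have h2 : Nat.card (P'.map (MonoidHom.snd (D k) (D k))) ≤ 4 := by
    apply Cfsg.Agent.LFourA.Facts.card_elem_le
    rintro _ ⟨p, hp, rfl⟩
    exact ((f_sq_one_iff h).1 (hA2 _ hp)).2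
  have h3 : Nat.card P' ≤ Nat.card (P'.map (MonoidHom.fst (D k) (D k)) × P'.map (MonoidHom.snd (D k) (D k))) := by
    apply Nat.card_le_card_of_injective (fun x : P' =>
      ((⟨x.1.1, x.1, x.2, rfl⟩ : P'.map (MonoidHom.fst (D k) (D k))),
        (⟨x.1.2, x.1, x.2, rfl⟩ : P'.map (MonoidHom.snd (D k) (D k)))))
    rintro ⟨⟨p, q⟩, hp⟩ ⟨⟨p', q'⟩, hp'⟩ e
    have e1 : p = p' := congrArg (fun y => (Subtype.val (Prod.fst y))) e
    have e2 : q = q' := congrArg (fun y => (Subtype.val (Prod.snd y))) e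
    simp [e1, e2]
  rw [Nat.card_prod] at h3
  calc Nat.card P' ≤ _ := h3
    _ ≤ 4 * 4 := Nat.mul_le_mul h1 h2

omit [Finite G] in
/-- An elementary abelian subgroup of order 16 contains `f e e'`, `e, e' ∈ {1, c}`. -/
theorem central_mem {S : Subgroup G} (h : DWr S k f w) (A : Subgroup G) (hA : A ≤ S)
    (hA2 : ∀ x ∈ A, x * x = 1) (h16 : Nat.card A = 16) {e e' : D k} (he : e = 1 ∨ e = c k)
    (he' : e' = 1 ∨ e' = c k) : f e e' ∈ A := by
  have hAb : A ≤ base h := le_base_of_elem h A hA hA2 h16.ge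
  by_contra hcon
  have hcomm : ∀ x ∈ A, f e e' * x = x * f e e' := by
    intro x hx
    obtain ⟨a, b, rfl⟩ := hAb hx
    exact f_comm_center h he he'
  have hsq : f e e' * f e e' = 1 := by
    rw [h.f_mul, f_eq_one_iff h]
    refine ⟨?_, ?_⟩
    · rcases he with rfl | rfl
      · simp
      · exact c_mul_c
    · rcases he' with rfl | rfl
      · simp
      · exact c_mul_c
  obtain ⟨t, ht⟩ : ∃ t : G, t = f e e' := ⟨_, rfl⟩
  rw [← ht] at hcon hcomm hsq
  let B : Subgroup G :=
    { carrier := {x | x ∈ A ∨ x * t ∈ A}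
      mul_mem' := by
        rintro x y (hx | hx) (hy | hy)
        · exact Or.inl (A.mul_mem hx hy)
        · right
          rw [mul_assoc]
          exact A.mul_mem hx hy
        · right
          have : x * y * t = x * t * y := by rw [mul_assoc, ← hcomm y hy, mul_assoc]
          rw [this]
          exact A.mul_mem hx hy
        · left
          have h1 : t * y = y * t := by
            have h2 := hcomm _ hy
            have h3 : t * (y * t) = (t * y) * t := by group
            rw [h3] at h2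
            exact mul_right_cancel h2
          have : x * y = (x * t) * (y * t) := by
            calc x * y = x * (t * t) * y := by rw [hsq, mul_one]
              _ = (x * t) * (t * y) := by group
              _ = (x * t) * (y * t) := by rw [h1]
          rw [this]
          exact A.mul_mem hx hy
      one_mem' := Or.inl A.one_mem
      inv_mem' := by
        rintro x (hx | hx)
        · exact Or.inl (A.inv_mem hx)
        · right
          have h1 := A.inv_mem hx
          have h2 := hcomm _ h1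
          have h3 : x⁻¹ * t = t * (x * t)⁻¹ * t := by group
          rw [h3, h2]
          have : (x * t)⁻¹ * t * t = (x * t)⁻¹ := by rw [mul_assoc, hsq, mul_one]
          rw [this]
          exact h1 }
  have hAB : A ≤ B := fun x hx => Or.inl hx
  have htB : t ∈ B := Or.inr (by rw [hsq]; exact A.one_mem)
  have hB2 : ∀ x ∈ B, x * x = 1 := by
    rintro x (hx | hx)
    · exact hA2 x hx
    · have h1 := hA2 _ hx
      have h2 := hcomm _ hx
      have h3 : t * x = x * t := by
        have h3 : t * (x * t) = (t * x) * t := by group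
        rw [h3] at h2
        exact mul_right_cancel h2
      calc x * x = x * x * (t * t) := by rw [hsq, mul_one]
        _ = x * (x * t) * t := by group
        _ = x * (t * x) * t := by rw [h3]
        _ = x * t * (x * t) := by group
        _ = 1 := h1
  have hBb : B ≤ base h := by
    have htb : t ∈ base h := by rw [ht]; exact f_mem_base h _ _
    rintro x (hx | hx)
    · exact hAb hx
    · have h1 := (base h).mul_mem (hAb hx) htb
      rwa [mul_assoc, hsq, mul_one] at h1
  have h1 := card_elem_le h B hBb hB2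
  have h2 : Nat.card A ∣ Nat.card B := Subgroup.card_dvd_of_le hAB
  rw [h16] at h2
  have hBfin : Finite B := by
    have : Finite (base h) := Nat.finite_of_card_ne_zero (by rw [card_base h]; positivity)
    exact Finite.of_injective (Subgroup.inclusion hBb) (Subgroup.inclusion_injective hBb)
  have h3 : Nat.card B = 16 := by
    obtain ⟨m, hm⟩ := h2
    have hpos : 0 < Nat.card B := Nat.card_pos
    have : m = 1 := by
      rcases m with _ | _ | m
      · omega
      · rfl
      · omega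
    omega
  have h4 : A = B := by
    apply Subgroup.eq_of_le_of_card_ge hAB
    rw [h3, h16]
  rw [← h4] at htB
  exact hcon htB

/-- In case I there is no elementary abelian subgroup of order 16 with conjugate involutions. -/
theorem not_trans (h : DWr (P : Subgroup G) k f w) (hc : ¬ IsConj (f (c k) 1) (f (c k) (c k))) :
    ¬ Cfsg.Agent.H245.Trans16.Trans16 G := by
  have h2p : Fact (Nat.Prime 2) := ⟨Nat.prime_two⟩
  rintro ⟨E, hE, hE2, hEc⟩
  have hEp : IsPGroup 2 E := by
    apply IsPGroup.of_card (n := 4)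
    rw [hE]
    norm_num
  obtain ⟨Q, hQ⟩ := hEp.exists_le_sylow
  obtain ⟨g, hg⟩ := MulAction.exists_smul_eq G Q P
  set A : Subgroup G := E.map (MulAut.conj g).toMonoidHom with hA
  have hAP : A ≤ (P : Subgroup G) := by
    rw [← hg, Sylow.coe_subgroup_smul]
    exact Subgroup.map_mono hQ
  have hA2 : ∀ x ∈ A, x * x = 1 := by
    rintro _ ⟨x, hx, rfl⟩
    rw [← map_mul, hE2 x hx, map_one]
  have hA16 : Nat.card A = 16 := by
    rw [← hE]
    exact (Nat.card_congr (E.equivMapOfInjective _ (MulAut.conj g).injective).toEquiv).symm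
  obtain ⟨a, ha, hae⟩ := central_mem h A hAP hA2 hA16 (Or.inr rfl) (Or.inl rfl)
  obtain ⟨b, hb, hbe⟩ := central_mem h A hAP hA2 hA16 (Or.inr rfl) (Or.inr rfl)
  have ha1 : a ≠ 1 := by
    rintro rfl
    rw [map_one] at hae
    exact t_ne_one h hae.symm
  have hb1 : b ≠ 1 := by
    rintro rfl
    rw [map_one] at hbe
    exact z_ne_one h hbe.symm
  obtain ⟨y, hy⟩ := hEc a ha b hb ha1 hb1
  apply hc
  rw [← hae, ← hbe, isConj_iff]
  refine ⟨g * y * g⁻¹, ?_⟩
  rw [← hy]
  simp only [MulEquiv.toMonoidHom_eq_coe, MonoidHom.coe_coe, MulAut.conj_apply]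
  group

end

end Cfsg.Agent.H245.TypeA10
end
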